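import Cfsg.Agent.Characters.Core
import Cfsg.Agent.Characters.Linear
import Cfsg.Agent.Characters.Central

/-!
# The decomposition of the Weil character (abstract form)

`om` is a real class function on a finite group, `P` (no fixed vectors for the reflections) a property of the
irreducible characters, `S` a linear condition on functions.  The hypotheses `Wd` say that class functions with
`S` are combinations of the irreducible characters with `P`, that a class function with `S` which vanishes at `1` and `t` is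
orthogonal to `om`, etc.  Conclusion: `om` is the sum of the irreducible characters `χ` with `P χ`, each with
multiplicity `(χ 1 - χ t) / c`.
-/

set_option autoImplicit false

open Cfsg
open scoped ComplexConjugate

namespace Cfsg.Agent.H458.CC.AbsWeil

open Cfsg.Agent.Characters.Core Cfsg.Agent.Characters.Linear

universe u

variable {G : Type u} [Group G]

/-- The product of an irreducible character and a linear character. -/
theorem isIrr_mul_hom [Finite G] {χ : G → ℂ} (hχ : IsIrrCharacter G χ) (f : G →* ℂˣ) :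
    IsIrrCharacter G (fun g => χ g * (f g : ℂ)) := by
  have := Fintype.ofFinite G
  refine isIrr_of_classInner_self (isCharacter_mul (isIrr_isCharacter hχ) (isCharacter_hom f)) ?_
  rw [← classInner_irr_self hχ, classInner_def, classInner_def]
  congr 1
  refine Finset.sum_congr rfl fun g _ => ?_
  have h1 : (f g : ℂ) * conj (f g : ℂ) = 1 := by
    rw [Complex.mul_conj, Complex.normSq_eq_norm_sq, norm_hom_apply]
    simp
  show χ g * (f g : ℂ) * conj (χ g * (f g : ℂ)) = _
  rw [map_mul]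
  linear_combination (χ g * conj (χ g)) * h1

/-- The data. -/
structure Wd [Fintype G] (om : G → ℂ) (P S : (G → ℂ) → Prop) (t : G) (c N : ℂ) : Prop where
  om_cl : IsClassFunction G om
  om_re : ∀ g, conj (om g) = om g
  S_om : S om
  S_P : ∀ χ, IsIrrCharacter G χ → P χ → S χ
  S_sub : ∀ a b, S a → S b → S (a - b)
  S_smul : ∀ (c : ℂ) a, S a → S (c • a)
  perp : ∀ Δ, IsClassFunction G Δ → S Δ → ∀ χ, IsIrrCharacter G χ → ¬ P χ → classInner Δ χ = 0
  zero : ∀ Δ, IsClassFunction G Δ → S Δ → Δ 1 = 0 → Δ t = 0 → classInner Δ om = 0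
  om_om : classInner om om = N
  om_t : om 1 - om t = N * c
  c0 : c ≠ 0
  N0 : N ≠ 0
  int : ∀ χ, IsIrrCharacter G χ → ∃ b : ℕ, χ 1 - χ t = b * c

namespace Wd

variable [Fintype G] {om : G → ℂ} {P S : (G → ℂ) → Prop} {t : G} {c N : ℂ}

omit [Fintype G] in
theorem cl_sub {a b : G → ℂ} (ha : IsClassFunction G a) (hb : IsClassFunction G b) :
    IsClassFunction G (a - b) := fun g h => by
  rw [Pi.sub_apply, Pi.sub_apply, ha g h, hb g h]

omit [Fintype G] in
theorem cl_smul {a : G → ℂ} (x : ℂ) (ha : IsClassFunction G a) : IsClassFunction G (x • a) := fun g h => by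
  rw [Pi.smul_apply, Pi.smul_apply, ha g h]

/-- First step: the inner product with `om`, up to an unknown constant. -/
theorem inner_eq (W : Wd om P S t c N) {δ : G →* ℂˣ} (hδ : P (fun g => (δ g : ℂ))) (hδt : δ t = 1)
    {χ : G → ℂ} (hχ : IsIrrCharacter G χ) (hP : P χ) {b : ℂ} (hb : χ 1 - χ t = b * c) :
    classInner χ om = b + (χ 1 - b / N * om 1) * classInner (fun g => (δ g : ℂ)) om := by
  set d : G → ℂ := fun g => (δ g : ℂ) with hd
  have hdi : IsIrrCharacter G d := isIrrCharacter_hom δ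
  have h0 := W.zero (χ - (b / N) • om - (χ 1 - b / N * om 1) • d)
    (cl_sub (cl_sub (isIrr_isClassFunction hχ) (cl_smul _ W.om_cl)) (cl_smul _ (isIrr_isClassFunction hdi)))
    (W.S_sub _ _ (W.S_sub _ _ (W.S_P _ hχ hP) (W.S_smul _ _ W.S_om)) (W.S_smul _ _ (W.S_P _ hdi hδ)))
    (by
      have : d 1 = 1 := by rw [hd]; simp
      simp only [Pi.sub_apply, Pi.smul_apply, smul_eq_mul, this]
      ring)
    (by
      have h1 : d t = 1 := by rw [hd]; simp [hδt]
      have h2 := W.om_t
      have h3 := W.N0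
      simp only [Pi.sub_apply, Pi.smul_apply, smul_eq_mul, h1]
      have h4 : b / N * (om 1 - om t) = b * c := by rw [h2]; field_simp
      linear_combination h4 - hb)
  rw [classInner_sub_left, classInner_sub_left, classInner_smul_left, classInner_smul_left, W.om_om] at h0
  have h3 := W.N0
  have h5 : b / N * N = b := div_mul_cancel₀ _ h3
  linear_combination h0 + h5

/-- Second step: the constant is zero. -/
theorem inner_lin_eq_zero (W : Wd om P S t c N) {δ δ' : G →* ℂˣ} (hδ : P (fun g => (δ g : ℂ))) (hδt : δ t = 1)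
    (hδδ : P (fun g => (δ g : ℂ) * (δ' g : ℂ))) (hδ't : δ' t = 1) (hsum : ∑ g, om g ^ 2 * (δ' g : ℂ) = 0)
    (hnot : ∀ χ, IsIrrCharacter G χ → P χ → χ t ≠ χ 1 → ¬ P (fun g => χ g * (δ' g : ℂ))) :
    classInner (fun g => (δ g : ℂ)) om = 0 := by
  classical
  have := finite_irr (G := G)
  have := Fintype.ofFinite (IrrCharacter G)
  set d : G → ℂ := fun g => (δ g : ℂ) with hd
  set α : ℂ := classInner d om with hα
  -- the value at the characters
  have key : ∀ χ : IrrCharacter G, P χ → P (fun g => (χ : G → ℂ) g * (δ' g : ℂ)) →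
      classInner (χ : G → ℂ) om = (χ : G → ℂ) 1 * α ∧
      classInner (fun g => (χ : G → ℂ) g * (δ' g : ℂ)) om = (χ : G → ℂ) 1 * α := by
    intro χ h1 h2
    have ht : (χ : G → ℂ) t = (χ : G → ℂ) 1 := by
      by_contra h
      exact hnot χ χ.2 h1 h h2
    constructor
    · have := W.inner_eq hδ hδt χ.2 h1 (b := 0) (by rw [ht]; ring)
      rw [this]
      ring
    · have := W.inner_eq hδ hδt (isIrr_mul_hom χ.2 δ') h2 (b := 0) (by
        show (χ : G → ℂ) 1 * (δ' 1 : ℂ) - (χ : G → ℂ) t * (δ' t : ℂ) = _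
        rw [ht, hδ't, map_one]
        ring)
      rw [this]
      simp only [map_one, Units.val_one]
      ring
  -- Parseval
  have hcl : IsClassFunction G (fun g => om g * conj (δ' g : ℂ)) := fun g h => by
    show om (h * g * h⁻¹) * conj ((δ' (h * g * h⁻¹) : ℂˣ) : ℂ) = om g * conj (δ' g : ℂ)
    have h1 : ((δ' (h * g * h⁻¹) : ℂˣ) : ℂ) = (δ' g : ℂ) := isIrr_isClassFunction (isIrrCharacter_hom δ') g h
    rw [W.om_cl g h, h1]
  have h0 : classInner om (fun g => om g * conj (δ' g : ℂ)) = 0 := by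
    rw [classInner_def]
    have : ∑ g, om g * conj (om g * conj (δ' g : ℂ)) = 0 := by
      rw [← hsum]
      refine Finset.sum_congr rfl fun g _ => ?_
      rw [map_mul, Complex.conj_conj, W.om_re]
      ring
    rw [this, mul_zero]
  rw [classInner_eq_sum W.om_cl hcl] at h0
  have hsw : ∀ χ : G → ℂ, classInner (fun g => om g * conj (δ' g : ℂ)) χ =
      classInner om (fun g => χ g * (δ' g : ℂ)) := by
    intro χ
    rw [classInner_def, classInner_def]
    congr 1
    refine Finset.sum_congr rfl fun g _ => ?_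
    rw [map_mul]
    ring
  -- each term is a nonnegative real
  have hterm : ∀ χ : IrrCharacter G, classInner om (χ : G → ℂ) *
      conj (classInner (fun g => om g * conj (δ' g : ℂ)) (χ : G → ℂ)) =
      ((if P χ ∧ P (fun g => (χ : G → ℂ) g * (δ' g : ℂ)) then Complex.normSq ((χ : G → ℂ) 1 * α) else 0 : ℝ) : ℂ) := by
    intro χ
    rw [hsw]
    split_ifs with h
    · obtain ⟨h1, h2⟩ := key χ h.1 h.2
      have h3 : conj (classInner om (fun g => (χ : G → ℂ) g * (δ' g : ℂ))) = (χ : G → ℂ) 1 * α := by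
        rw [classInner_conj_symm, h2]
      rw [← classInner_conj_symm, h1, h3, mul_comm, Complex.mul_conj]
    · by_cases h1 : P χ
      · have h2 : ¬ P (fun g => (χ : G → ℂ) g * (δ' g : ℂ)) := fun h2 => h ⟨h1, h2⟩
        rw [W.perp om W.om_cl W.S_om _ (isIrr_mul_hom χ.2 δ') h2]
        simp
      · rw [W.perp om W.om_cl W.S_om _ χ.2 h1]
        simp
  rw [Finset.sum_congr rfl fun χ _ => hterm χ, ← Complex.ofReal_sum, Complex.ofReal_eq_zero,
    Finset.sum_eq_zero_iff_of_nonneg] at h0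
  · have h1 := h0 ⟨d, isIrrCharacter_hom δ⟩ (Finset.mem_univ _)
    rw [if_pos ⟨hδ, hδδ⟩] at h1
    have h2 : d 1 = 1 := by rw [hd]; simp
    simpa [h2] using Complex.normSq_eq_zero.mp h1
  · intro χ _
    split_ifs
    · exact Complex.normSq_nonneg _
    · exact le_rfl

/-- Third step: all the multiplicities. -/
theorem inner_om (W : Wd om P S t c N) {δ δ' : G →* ℂˣ} (hδ : P (fun g => (δ g : ℂ))) (hδt : δ t = 1)
    (hδδ : P (fun g => (δ g : ℂ) * (δ' g : ℂ))) (hδ't : δ' t = 1) (hsum : ∑ g, om g ^ 2 * (δ' g : ℂ) = 0)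
    (hnot : ∀ χ, IsIrrCharacter G χ → P χ → χ t ≠ χ 1 → ¬ P (fun g => χ g * (δ' g : ℂ))) :
    ∃ m : IrrCharacter G → ℕ, (∀ χ : IrrCharacter G, classInner om (χ : G → ℂ) = m χ) ∧
      (∀ χ : IrrCharacter G, P χ → (χ : G → ℂ) 1 - (χ : G → ℂ) t = m χ * c) ∧
      (∀ χ : IrrCharacter G, ¬ P χ → m χ = 0) := by
  classical
  have h0 := W.inner_lin_eq_zero hδ hδt hδδ hδ't hsum hnot
  choose b hb using fun χ : IrrCharacter G => W.int χ χ.2
  refine ⟨fun χ => if P χ then b χ else 0, fun χ => ?_, fun χ h => ?_, fun χ h => ?_⟩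
  · show _ = (((if P χ then b χ else 0 : ℕ)) : ℂ)
    split_ifs with h
    · rw [← classInner_conj_symm, W.inner_eq hδ hδt χ.2 h (hb χ), h0, mul_zero, add_zero, map_natCast]
    · rw [W.perp om W.om_cl W.S_om _ χ.2 h, Nat.cast_zero]
  · show _ = (((if P χ then b χ else 0 : ℕ)) : ℂ) * c
    rw [if_pos h, hb χ]
  · exact if_neg h

end Wd

/-! ### The components under a central subgroup -/

section Central

variable [Fintype G]

/-- The result of the decomposition. -/
structure Dec (om : G → ℂ) (P : (G → ℂ) → Prop) (t : G) (c : ℂ) (m : IrrCharacter G → ℕ) : Prop where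
  om_cl : IsClassFunction G om
  inner : ∀ χ : IrrCharacter G, classInner om (χ : G → ℂ) = m χ
  val : ∀ χ : IrrCharacter G, P χ → (χ : G → ℂ) 1 - (χ : G → ℂ) t = m χ * c
  not : ∀ χ : IrrCharacter G, ¬ P χ → m χ = 0
  c0 : c ≠ 0

variable {om : G → ℂ} {P : (G → ℂ) → Prop} {t : G} {c : ℂ} {m : IrrCharacter G → ℕ}

theorem Dec.eq_sum [Fintype (IrrCharacter G)] (D : Dec om P t c m) (g : G) :
    om g = ∑ χ : IrrCharacter G, (m χ : ℂ) * (χ : G → ℂ) g := by
  have h := congrFun (classFunction_eq_sum D.om_cl) g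
  rw [h, Finset.sum_apply]
  refine Finset.sum_congr rfl fun χ _ => ?_
  rw [Pi.smul_apply, smul_eq_mul, D.inner]

/-- A subgroup on which `om` sums to zero has no fixed vectors on the constituents of `om`. -/
theorem Dec.sum_zero (D : Dec om P t c m) {χ : G → ℂ} (hχ : IsIrrCharacter G χ) (hP : P χ) (ht : χ t ≠ χ 1)
    (Y : Subgroup G) (hY : ∑ᶠ y : Y, om (y : G) = 0) : ∑ᶠ y : Y, χ (y : G) = 0 := by
  classical
  have := finite_irr (G := G)
  have := Fintype.ofFinite (IrrCharacter G)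
  have : Fintype Y := Fintype.ofFinite _
  have hnat : ∀ ψ : IrrCharacter G, ∃ k : ℕ, ∑ y : Y, (ψ : G → ℂ) (y : G) = k := by
    intro ψ
    have h1 : IsCharacter Y (fun y : Y => (ψ : G → ℂ) (y : G)) :=
      isCharacter_comp Y.subtype (isIrr_isCharacter ψ.2)
    obtain ⟨k, hk⟩ := classInner_isNat h1 (isCharacter_one (G := Y))
    refine ⟨Nat.card Y * k, ?_⟩
    rw [classInner_def] at hk
    simp only [Pi.one_apply, map_one, mul_one] at hk
    have h2 : (Nat.card Y : ℂ) ≠ 0 := card_ne_zero_complex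
    rw [Nat.cast_mul, ← hk, mul_inv_cancel_left₀ h2]
  choose k hk using hnat
  rw [finsum_eq_sum_of_fintype] at hY ⊢
  have h1 : ∑ ψ : IrrCharacter G, m ψ * k ψ = 0 := by
    have h2 : ∑ y : Y, om (y : G) = ∑ ψ : IrrCharacter G, (m ψ : ℂ) * (k ψ : ℂ) := by
      simp_rw [D.eq_sum]
      rw [Finset.sum_comm]
      refine Finset.sum_congr rfl fun ψ _ => ?_
      rw [← hk ψ, Finset.mul_sum]
    rw [h2] at hY
    exact_mod_cast hY
  rw [Finset.sum_eq_zero_iff] at h1
  have h3 := h1 ⟨χ, hχ⟩ (Finset.mem_univ _)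
  have h4 : m ⟨χ, hχ⟩ ≠ 0 := by
    intro h4
    have h5 := D.val ⟨χ, hχ⟩ hP
    rw [h4] at h5
    apply ht
    have h6 : χ 1 - χ t = 0 := by simpa using h5
    exact (sub_eq_zero.mp h6).symm
  have h7 := hk ⟨χ, hχ⟩
  rcases mul_eq_zero.mp h3 with h8 | h8
  · exact absurd h8 h4
  · rw [h8] at h7
    simpa using h7

omit [Fintype G] in
/-- The central character. -/
theorem exists_central (Z : Subgroup G) (hZ : ∀ z ∈ Z, ∀ g, z * g = g * z) {χ : G → ℂ}
    (hχ : IsIrrCharacter G χ) : ∃ η : Z →* ℂˣ, ∀ (z : Z) (g : G), χ (z * g) = (η z : ℂˣ) * χ g := by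
  have := hχ
  obtain ⟨n, ρ, hρ, rfl⟩ := this
  have h1 : ∀ z : Z, ∃ a : ℂ, ρ (z : G) = a • (1 : Module.End ℂ (Fin n → ℂ)) := fun z =>
    Cfsg.Agent.Characters.Central.exists_smul_of_comm ρ hρ _ fun g => by
      rw [← map_mul, ← map_mul, hZ z z.2]
  choose a ha using h1
  have hne : ρ.character 1 ≠ 0 := isIrr_apply_one_ne_zero hχ
  have hval : ∀ (z : Z) (g : G), ρ.character (z * g) = a z * ρ.character g := fun z g => by
    rw [Representation.character, Representation.character, map_mul, ha, smul_mul_assoc, one_mul, map_smul,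
      smul_eq_mul]
  have h10 : a 1 = 1 := by
    have h := hval 1 1
    rw [Subgroup.coe_one, mul_one] at h
    exact (mul_right_cancel₀ hne (by rw [one_mul]; exact h)).symm
  have h11 : ∀ z z', a (z * z') = a z * a z' := fun z z' => by
    have h := hval (z * z') 1
    rw [Subgroup.coe_mul, mul_assoc, hval, hval, ← mul_assoc] at h
    exact (mul_right_cancel₀ hne h).symm
  let A : Z →* ℂ := { toFun := a, map_one' := h10, map_mul' := h11 }
  exact ⟨A.toHomUnits, fun z g => hval z g⟩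

/-- The component of `om` with a given central character is irreducible. -/
theorem Dec.exists_unique (D : Dec om P t c m) (Z : Subgroup G) (hZ : ∀ z ∈ Z, ∀ g, z * g = g * z)
    (hom : om 1 - om t = (Nat.card Z : ℂ) * c) (hzt : ∀ z ∈ Z, z ≠ 1 → om z = om (z * t)) (ε : Z →* ℂˣ) :
    ∃ χ : IrrCharacter G, P χ ∧ (χ : G → ℂ) t ≠ (χ : G → ℂ) 1 ∧
      (∀ (z : Z) (g : G), (χ : G → ℂ) (z * g) = (ε z : ℂˣ) * (χ : G → ℂ) g) ∧
      (∀ g : G, (χ : G → ℂ) g = (Nat.card Z : ℂ)⁻¹ * ∑ᶠ z : Z, ((ε z)⁻¹ : ℂˣ) * om ((z : G) * g)) ∧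
      ∀ ψ : IrrCharacter G, P ψ → (ψ : G → ℂ) t ≠ (ψ : G → ℂ) 1 →
        (∀ (z : Z) (g : G), (ψ : G → ℂ) (z * g) = (ε z : ℂˣ) * (ψ : G → ℂ) g) → ψ = χ := by
  classical
  have := finite_irr (G := G)
  have := Fintype.ofFinite (IrrCharacter G)
  have : Fintype Z := Fintype.ofFinite _
  have hc0 : (Nat.card Z : ℂ) ≠ 0 := card_ne_zero_complex
  choose η hη using fun χ : IrrCharacter G => exists_central Z hZ χ.2
  have hηu : ∀ (χ : IrrCharacter G) (θ : Z →* ℂˣ),
      (∀ (z : Z) (g : G), (χ : G → ℂ) (z * g) = (θ z : ℂˣ) * (χ : G → ℂ) g) → η χ = θ := by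
    intro χ θ hθ
    ext z
    have h1 := hθ z 1
    rw [hη] at h1
    exact mul_right_cancel₀ (isIrr_apply_one_ne_zero χ.2) h1
  -- orthogonality on `Z`
  have horth : ∀ (χ : IrrCharacter G) (g : G), (Nat.card Z : ℂ)⁻¹ * ∑ z : Z, ((ε z)⁻¹ : ℂˣ) * (χ : G → ℂ) (z * g) =
      if η χ = ε then (χ : G → ℂ) g else 0 := by
    intro χ g
    have h1 : ∀ z : Z, (((ε z)⁻¹ : ℂˣ) : ℂ) * (χ : G → ℂ) (z * g) =
        ((Units.coeHom ℂ).comp (ε⁻¹ * η χ)) z * (χ : G → ℂ) g := by
      intro z
      rw [hη]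
      simp only [MonoidHom.comp_apply, MonoidHom.mul_apply, MonoidHom.inv_apply, Units.coeHom_apply, Units.val_mul]
      ring
    rw [Finset.sum_congr rfl fun z _ => h1 z, ← Finset.sum_mul, sum_hom_units]
    have h2 : (Units.coeHom ℂ).comp (ε⁻¹ * η χ) = 1 ↔ η χ = ε := by
      constructor
      · intro h
        ext z
        have h3 := DFunLike.congr_fun h z
        simp only [MonoidHom.comp_apply, MonoidHom.mul_apply, MonoidHom.inv_apply, Units.coeHom_apply,
          MonoidHom.one_apply] at h3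
        have h4 : (ε z)⁻¹ * η χ z = 1 := Units.ext h3
        rw [inv_mul_eq_one] at h4
        rw [h4]
      · intro h
        ext z
        simp [h]
    by_cases h : η χ = ε
    · rw [if_pos (h2.mpr h), if_pos h, ← Nat.card_eq_fintype_card, inv_mul_cancel_left₀ hc0]
    · rw [if_neg (fun h' => h (h2.mp h')), if_neg h]
      simp
  have hexp : ∀ g : G, (Nat.card Z : ℂ)⁻¹ * ∑ z : Z, ((ε z)⁻¹ : ℂˣ) * om ((z : G) * g) =
      ∑ χ : IrrCharacter G, (m χ : ℂ) * (if η χ = ε then (χ : G → ℂ) g else 0) := by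
    intro g
    simp_rw [← horth, D.eq_sum, Finset.mul_sum]
    rw [Finset.sum_comm]
    refine Finset.sum_congr rfl fun χ _ => Finset.sum_congr rfl fun z _ => ?_
    ring
  -- the sum of the squares is one
  have hsq : ∑ χ : IrrCharacter G, (if η χ = ε then (m χ) ^ 2 else 0) = 1 := by
    have h1 : (Nat.card Z : ℂ)⁻¹ * ∑ z : Z, ((ε z)⁻¹ : ℂˣ) * om ((z : G) * 1) -
        (Nat.card Z : ℂ)⁻¹ * ∑ z : Z, ((ε z)⁻¹ : ℂˣ) * om ((z : G) * t) = c := by
      rw [← mul_sub, ← Finset.sum_sub_distrib, Finset.sum_eq_single (1 : Z)]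
      · rw [Subgroup.coe_one, one_mul, one_mul, map_one, inv_one, Units.val_one, one_mul, one_mul, hom,
          inv_mul_cancel_left₀ hc0]
      · intro z _ hz
        have hz' : (z : G) ≠ 1 := fun h => hz (Subtype.ext h)
        rw [mul_one, hzt z z.2 hz', sub_self]
      · exact fun h => absurd (Finset.mem_univ _) h
    rw [hexp, hexp, ← Finset.sum_sub_distrib] at h1
    have h2 : ∀ χ : IrrCharacter G, (m χ : ℂ) * (if η χ = ε then (χ : G → ℂ) 1 else 0) -
        (m χ : ℂ) * (if η χ = ε then (χ : G → ℂ) t else 0) =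
        ((if η χ = ε then (m χ) ^ 2 else 0 : ℕ) : ℂ) * c := by
      intro χ
      by_cases h : η χ = ε
      · rw [if_pos h, if_pos h, if_pos h]
        by_cases hP : P χ
        · rw [← mul_sub, D.val χ hP]
          push_cast
          ring
        · rw [D.not χ hP]
          simp
      · rw [if_neg h, if_neg h, if_neg h]
        simp
    rw [Finset.sum_congr rfl fun χ _ => h2 χ, ← Finset.sum_mul] at h1
    have h3 := mul_right_cancel₀ D.c0 (h1.trans (one_mul c).symm)
    exact_mod_cast h3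
  obtain ⟨χ, hχm⟩ : ∃ χ : IrrCharacter G, (if η χ = ε then (m χ) ^ 2 else 0) ≠ 0 := by
    by_contra hc
    push Not at hc
    rw [Finset.sum_eq_zero fun χ _ => hc χ] at hsq
    exact zero_ne_one hsq
  have hχε : η χ = ε := by
    by_contra h
    rw [if_neg h] at hχm
    exact hχm rfl
  rw [if_pos hχε] at hχm
  have hadd := Finset.add_sum_erase Finset.univ (fun χ => if η χ = ε then (m χ) ^ 2 else 0) (Finset.mem_univ χ)
  simp only [hsq, if_pos hχε] at hadd
  have hpos : 0 < (m χ) ^ 2 := Nat.pos_of_ne_zero hχm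
  have hm1 : m χ = 1 := by
    have h1 : (m χ) ^ 2 = 1 := by omega
    rcases pow_eq_one_iff.mp h1 with h2 | h2
    · exact h2
    · exact absurd h2 (by norm_num)
  have hrest : ∀ ψ : IrrCharacter G, ψ ≠ χ → η ψ = ε → m ψ = 0 := by
    intro ψ hψ hψε
    have h1 : ∑ χ ∈ Finset.univ.erase χ, (if η χ = ε then (m χ) ^ 2 else 0) = 0 := by omega
    rw [Finset.sum_eq_zero_iff] at h1
    have h2 := h1 ψ (Finset.mem_erase.mpr ⟨hψ, Finset.mem_univ _⟩)
    rw [if_pos hψε] at h2
    exact pow_eq_zero_iff (by norm_num) |>.mp h2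
  have hPχ : P χ := by
    by_contra h
    have := D.not χ h
    omega
  refine ⟨χ, hPχ, ?_, ?_, ?_, ?_⟩
  · intro h
    have h1 := D.val χ hPχ
    rw [h, sub_self, hm1, Nat.cast_one, one_mul] at h1
    exact D.c0 h1.symm
  · rw [← hχε]
    exact hη χ
  · intro g
    rw [finsum_eq_sum_of_fintype, hexp, Finset.sum_eq_single χ]
    · rw [hm1, if_pos hχε, Nat.cast_one, one_mul]
    · intro ψ _ hψ
      by_cases h : η ψ = ε
      · rw [hrest ψ hψ h, Nat.cast_zero, zero_mul]
      · rw [if_neg h, mul_zero]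
    · exact fun h => absurd (Finset.mem_univ _) h
  · intro ψ hPψ hψt hψε
    by_contra hne
    have h1 := hrest ψ hne (hηu ψ ε hψε)
    have h2 := D.val ψ hPψ
    rw [h1, Nat.cast_zero, zero_mul] at h2
    exact hψt (sub_eq_zero.mp h2).symm

end Central

end Cfsg.Agent.H458.CC.AbsWeil
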