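import Cfsg.Agent.H603.CC.Defs
import Cfsg.Agent.H458.CC.AbsWeil
import Mathlib.RingTheory.RootsOfUnity.PrimitiveRoots
import Mathlib.RingTheory.IntegralDomain

/-!
# The Weil character of a unitary group: fixed spaces, scalars, linear characters (S4793)
-/

set_option autoImplicit false

open Cfsg
open scoped ComplexConjugate

namespace Cfsg.Agent.H458.CC.Concrete

open Module Cfsg.Agent.H603.CC Cfsg.Agent.H458.CC.AbsWeil Cfsg.Agent.Characters.Core Cfsg.Agent.Characters.Linear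

universe u v

/-! ### Norm one elements of the field -/

section Field

variable {F : Type u} [Field F] [Finite F] {q : ℕ}

/-- a norm one element of order `q + 1` -/
theorem exists_prim (h2 : 2 ≤ q) (hF : Nat.card F = q ^ 2) : ∃ a : Fˣ, IsPrimitiveRoot a (q + 1) := by
  obtain ⟨g, hg⟩ := IsCyclic.exists_generator (α := Fˣ)
  have h4 : orderOf g = Nat.card Fˣ := orderOf_eq_card_of_forall_mem_zpowers hg
  have h5 : Nat.card Fˣ = (q - 1) * (q + 1) := by
    rw [Nat.card_units, hF]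
    obtain ⟨k, rfl⟩ := Nat.exists_eq_add_of_le h2
    have h6 : 2 + k - 1 = k + 1 := by omega
    rw [h6]
    have h7 : (2 + k) ^ 2 = (k + 1) * (2 + k + 1) + 1 := by ring
    omega
  refine ⟨g ^ (q - 1), ?_⟩
  have h6 : orderOf (g ^ (q - 1)) = q + 1 := by
    rw [orderOf_pow' g (by omega), h4, h5, Nat.gcd_eq_right (Dvd.intro _ rfl)]
    exact Nat.mul_div_cancel_left _ (by omega)
  rw [← h6]
  exact IsPrimitiveRoot.orderOf _

/-- a homomorphism `κ` such that `κ` and `κ²` are nontrivial on the norm one group -/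
theorem exists_kappa (h2 : 2 ≤ q) (hF : Nat.card F = q ^ 2) :
    ∃ κ : Fˣ →* ℂˣ, KNT q κ ∧ KNT q (κ * κ) := by
  obtain ⟨a, ha⟩ := exists_prim h2 hF
  have h1 : a ^ 2 ≠ 1 := ha.pow_ne_one_of_pos_of_lt (by norm_num) (by omega)
  obtain ⟨κ, hκ⟩ := CommGroup.exists_apply_ne_one_of_hasEnoughRootsOfUnity Fˣ ℂ h1
  refine ⟨κ, ⟨a, ha.pow_eq_one, fun h => hκ ?_⟩, ⟨a, ha.pow_eq_one, fun h => hκ ?_⟩⟩
  · rw [map_pow, h, one_pow]
  · rw [map_pow, sq]
    exact h

theorem card_roots (h2 : 2 ≤ q) (hF : Nat.card F = q ^ 2) : Nat.card (rootsOfUnity (q + 1) F) = q + 1 := by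
  obtain ⟨a, ha⟩ := exists_prim h2 hF
  have : NeZero (q + 1) := ⟨by omega⟩
  have ha' : IsPrimitiveRoot (a : F) (q + 1) := IsPrimitiveRoot.coe_units_iff.mpr ha
  exact ha'.card_rootsOfUnity

end Field

section Space

variable {F : Type u} {V : Type v} [Field F] [AddCommGroup V] [Module F V] {q : ℕ} {σ : F →+* F}
  {B : V →ₛₗ[σ] V →ₗ[F] F}

/-! ### Fixed spaces -/

theorem fx_one : fx (1 : UU B) = ⊤ := by
  rw [eq_top_iff]
  intro x _
  exact ac_one x

theorem fx_ne_top {g : UU B} (hg : g ≠ 1) : fx g ≠ ⊤ := by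
  intro h
  apply hg
  refine ac_ext fun x => ?_
  have : x ∈ fx g := by rw [h]; trivial
  rw [ac_one]
  exact this

theorem wf_one (hodd : Odd (finrank F V)) : wf q (1 : UU B) = - (q : ℂ) ^ finrank F V := by
  rw [wf, fx_one, finrank_top, hodd.neg_pow]

theorem wf_of_hyper {t : UU B} (hodd : Odd (finrank F V)) (ht : finrank F (fx t) + 1 = finrank F V) :
    wf q t = (q : ℂ) ^ (finrank F V - 1) := by
  have h1 : finrank F (fx t) = finrank F V - 1 := by omega
  have h2 : Even (finrank F V - 1) := by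
    obtain ⟨k, hk⟩ := hodd
    exact ⟨k, by omega⟩
  rw [wf, h1, h2.neg_pow]

theorem wf_of_bot {t : UU B} (ht : fx t = ⊥) : wf q t = 1 := by
  rw [wf, ht, finrank_bot, pow_zero]

/-- the fixed space of a transvection -/
theorem finrank_fx_tv [Finite V] {t : UU B} {e : V} (he0 : e ≠ 0) (ht1 : t ≠ 1) (ht : t ∈ Ref B e)
    (hperp : finrank F (perp B (Submodule.span F {e})) + finrank F (Submodule.span F {e}) = finrank F V) :
    finrank F (fx t) + 1 = finrank F V := by
  have h1 : perp B (Submodule.span F {e}) ≤ fx t := fun x hx => ht x hx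
  have h2 := Submodule.finrank_mono h1
  have h3 := Submodule.finrank_lt (lt_top_iff_ne_top.mpr (fx_ne_top ht1)).ne
  rw [finrank_span_singleton he0] at hperp
  omega

/-- a nontrivial scalar has no fixed vectors -/
theorem fx_scalar {z : UU B} {c : F} (hz : ∀ x, ac B z x = c • x) (h1 : z ≠ 1) : fx z = ⊥ := by
  rw [eq_bot_iff]
  intro x hx
  have hx' : ac B z x = x := hx
  rw [hz] at hx'
  have hc : c ≠ 1 := by
    rintro rfl
    exact h1 (ac_ext fun x => by rw [hz, one_smul, ac_one])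
  have h2 : (c - 1) • x = 0 := by rw [sub_smul, hx', one_smul, sub_self]
  rcases smul_eq_zero.mp h2 with h | h
  · exact absurd (sub_eq_zero.mp h) hc
  · exact h

/-- the product of a nontrivial scalar and a transvection has no fixed vectors -/
theorem fx_scalar_tv {z t : UU B} {c k : F} {e : V} (hz : ∀ x, ac B z x = c • x) (h1 : z ≠ 1)
    (he : B e e = 0) (ht : ∀ x, ac B t x = x + (k * B e x) • e) : fx (z * t) = ⊥ := by
  rw [eq_bot_iff]
  intro x hx
  have hx' : ac B (z * t) x = x := hx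
  rw [ac_mul, hz, ht] at hx'
  have hc : c ≠ 1 := by
    rintro rfl
    exact h1 (ac_ext fun x => by rw [hz, one_smul, ac_one])
  have h2 : (1 - c) • x = (c * (k * B e x)) • e := by
    rw [smul_add, smul_smul] at hx'
    rw [sub_smul, one_smul, sub_eq_iff_eq_add, add_comm]
    exact hx'.symm
  have h3 : B e x = 0 := by
    have h4 := congrArg (B e) h2
    rw [map_smul, map_smul, he, smul_zero, smul_eq_mul] at h4
    rcases mul_eq_zero.mp h4 with h | h
    · exact absurd (sub_eq_zero.mp h).symm hc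
    · exact h
  rw [h3, mul_zero, mul_zero, zero_smul] at h2
  rcases smul_eq_zero.mp h2 with h | h
  · exact absurd (sub_eq_zero.mp h).symm hc
  · exact h

/-! ### Scalars -/

theorem zs_comm {z : UU B} (hz : z ∈ Zs B) (g : UU B) : z * g = g * z := by
  obtain ⟨c, hc⟩ := hz
  refine ac_ext fun x => ?_
  rw [ac_mul, ac_mul, hc, hc, ac_smul]

theorem card_Zs [Finite F] (h : HS q σ B) [Nontrivial V] : Nat.card (Zs B) = q + 1 := by
  rw [← card_roots h.two_le h.card]
  obtain ⟨x₀, hx₀⟩ := exists_ne (0 : V)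
  obtain ⟨y₀, hy₀⟩ : ∃ y, B x₀ y ≠ 0 := by
    by_contra hc
    push Not at hc
    exact hx₀ (h.ext hc)
  -- the scalar of a norm one element
  have key : ∀ c : rootsOfUnity (q + 1) F, ∀ x y : V,
      B (LinearEquiv.smulOfUnit (c : Fˣ) x) (LinearEquiv.smulOfUnit (c : Fˣ) y) = B x y := by
    intro c x y
    have h1 : ((c : Fˣ) : F) ^ (q + 1) = 1 := by
      have := c.2
      rw [mem_rootsOfUnity'] at this
      exact this
    have h2 : ∀ x : V, LinearEquiv.smulOfUnit (c : Fˣ) x = ((c : Fˣ) : F) • x := fun x => rfl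
    rw [h2, h2, map_smul, LinearMap.map_smulₛₗ, LinearMap.smul_apply, smul_smul, h.sig, ← pow_succ', h1,
      one_smul]
  refine (Nat.card_congr (Equiv.ofBijective
    (fun c : rootsOfUnity (q + 1) F => (⟨mkU (LinearEquiv.smulOfUnit (c : Fˣ)) (key c),
      ⟨((c : Fˣ) : F), fun x => rfl⟩⟩ : Zs B)) ⟨?_, ?_⟩)).symm
  · intro c c' hcc
    have h1 : ac B (mkU (LinearEquiv.smulOfUnit (c : Fˣ)) (key c)) x₀ =
        ac B (mkU (LinearEquiv.smulOfUnit (c' : Fˣ)) (key c')) x₀ :=
      congrArg (fun g : UU B => ac B g x₀) (congrArg Subtype.val hcc)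
    have h2 : ((c : Fˣ) : F) • x₀ = ((c' : Fˣ) : F) • x₀ := h1
    exact Subtype.ext (Units.ext (smul_left_injective F hx₀ h2))
  · rintro ⟨z, a, ha⟩
    have h1 : a ^ (q + 1) = 1 := by
      have h2 := form_ac z x₀ y₀
      rw [ha, ha, map_smul, LinearMap.map_smulₛₗ, LinearMap.smul_apply, smul_smul, h.sig, ← pow_succ',
        smul_eq_mul] at h2
      exact mul_right_cancel₀ hy₀ (by rw [h2, one_mul])
    have ha0 : a ≠ 0 := by
      rintro rfl
      rw [zero_pow (by omega)] at h1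
      exact zero_ne_one h1
    refine ⟨⟨Units.mk0 a ha0, ?_⟩, ?_⟩
    · rw [mem_rootsOfUnity']
      exact h1
    · refine Subtype.ext (ac_ext fun x => ?_)
      rw [ha]
      rfl

/-! ### Linear characters -/

/-- A linear character of the unitary group. -/
noncomputable def dh (B : V →ₛₗ[σ] V →ₗ[F] F) (κ : Fˣ →* ℂˣ) : UU B →* ℂˣ := κ.comp dt

theorem dh_apply (κ : Fˣ →* ℂˣ) (g : UU B) : ((dh B κ g : ℂˣ) : ℂ) = dl κ g := rfl

theorem noRef_dl [Finite F] [Finite V] {κ : Fˣ →* ℂˣ} (hκ : KNT q κ)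
    (hrf : ∀ {f : V}, B f f = 1 → ∀ {c : F}, c ^ (q + 1) = 1 → ∃ ρ ∈ Ref B f, ((dt ρ : Fˣ) : F) = c) :
    NoRef (dl κ : UU B → ℂ) := by
  classical
  intro f hf
  obtain ⟨a, ha, hκa⟩ := hκ
  have : Fintype (Ref B f) := Fintype.ofFinite _
  have ha' : ((a : Fˣ) : F) ^ (q + 1) = 1 := by
    rw [← Units.val_pow_eq_pow_val, ha, Units.val_one]
  obtain ⟨ρ, hρ, hdρ⟩ := hrf hf ha'
  rw [finsum_eq_sum_of_fintype]
  let φ : Ref B f →* ℂ := ((Units.coeHom ℂ).comp (dh B κ)).comp (Ref B f).subtype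
  have h1 : φ ≠ 1 := by
    intro h
    apply hκa
    have h2 := DFunLike.congr_fun h ⟨ρ, hρ⟩
    have h3 : dt ρ = a := Units.ext hdρ
    have h4 : φ ⟨ρ, hρ⟩ = ((κ a : ℂˣ) : ℂ) := by
      show ((κ (dt ρ) : ℂˣ) : ℂ) = _
      rw [h3]
    rw [h4] at h2
    exact Units.ext h2
  exact sum_hom_units_eq_zero φ h1

end Space

end Cfsg.Agent.H458.CC.Concrete
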