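import Cfsg.Agent.H458.CC.Concrete

/-!
# MAIN2 of S4793: the Weil characters of the unitary group, from the other results (as hypotheses)
-/

set_option autoImplicit false
set_option linter.unusedSectionVars false

open Cfsg
open scoped ComplexConjugate

namespace Cfsg.Agent.H458.CC.Main2Core

open Module Cfsg.Agent.H603.CC Cfsg.Agent.H458.CC.AbsWeil Cfsg.Agent.H458.CC.Concrete
open Cfsg.Agent.Characters.Core Cfsg.Agent.Characters.Linear

universe u v

variable {F : Type u} {V : Type v} [Field F] [AddCommGroup V] [Module F V] {σ : F →+* F}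

/-- The results used in the proof. -/
structure Inp (q : ℕ) (B : V →ₛₗ[σ] V →ₗ[F] F) : Prop where
  ref : ∀ {f : V}, B f f = 1 → ∀ {c : F}, c ^ (q + 1) = 1 → ∃ ρ ∈ Ref B f, ((dt ρ : Fˣ) : F) = c
  tv : ∀ {e : V}, e ≠ 0 → B e e = 0 → ∀ {t : UU B}, t ∈ Ref B e →
    ∃ k : F, (∀ x, ac B t x = x + (k * B e x) • e) ∧ dt t = 1
  finrank_perp : ∀ W : Submodule F V, finrank F (perp B W) + finrank F W = finrank F V
  isConj_tv : ∀ {s t : UU B}, IsTv s → IsTv t → IsConj s t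
  exists_isTv : ∃ t : UU B, IsTv t
  star_wf : Star (B := B) (wf q)
  wf_class : IsClassFunction (UU B) (wf q)
  star_of_noRef : ∀ {χ : UU B → ℂ}, IsCharacter (UU B) χ → NoRef χ → Star χ
  inner_eq_zero : ∀ [Fintype (UU B)] {Δ χ : UU B → ℂ}, IsClassFunction (UU B) Δ → Star Δ →
    IsIrrCharacter (UU B) χ → ¬ NoRef χ → classInner Δ χ = 0
  wsum : ∀ {Δ : UU B → ℂ}, Star Δ → (∀ E, IsTS B E → ∀ g ∈ FixS B (perp B E), Δ g = 0) →
    ∀ Θ : Submodule F V → ℂ, ∑ᶠ g : UU B, Δ g * Θ (fx g) = 0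
  sum_sq : ∑ᶠ g : UU B, (wf q g) ^ 2 = (q + 1) * Nat.card (UU B)
  sum_sq_dl : ∀ {κ : Fˣ →* ℂˣ}, KNT q κ → ∑ᶠ g : UU B, (wf q g) ^ 2 * dl κ g = 0
  zero_on : ∀ {Δ : UU B → ℂ}, IsClassFunction (UU B) Δ → Star Δ → Δ 1 = 0 → (∀ t, IsTv t → Δ t = 0) →
    ∀ {E : Submodule F V}, IsTS B E → ∀ {g : UU B}, g ∈ FixS B (perp B E) → Δ g = 0
  not_noRef_mul : ∀ {χ : UU B → ℂ}, IsIrrCharacter (UU B) χ → NoRef χ → ∀ {t : UU B}, IsTv t → χ t ≠ χ 1 →
    ∀ {κ : Fˣ →* ℂˣ}, KNT q κ → ¬ NoRef (fun g : UU B => χ g * dl κ g)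
  integrality : ∀ {χ : UU B → ℂ}, IsCharacter (UU B) χ → ∀ {t : UU B}, IsTv t →
    ∃ b : ℕ, χ 1 - χ t = b * (q : ℂ) ^ (finrank F V - 1)

variable {q : ℕ} {B : V →ₛₗ[σ] V →ₗ[F] F} [Finite F] [Finite V]

theorem star_sub {a b : UU B → ℂ} (ha : Star a) (hb : Star b) : Star (a - b) := by
  intro f hf g
  have h : ∀ ρ : Ref B f, (a - b) ((ρ : UU B) * g) = a ((ρ : UU B) * g) - b ((ρ : UU B) * g) := fun _ => rfl
  rw [finsum_congr h, finsum_sub_distrib (Set.toFinite _) (Set.toFinite _), ha f hf g, hb f hf g, sub_zero]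

theorem star_smul (c : ℂ) {a : UU B → ℂ} (ha : Star a) : Star (c • a) := by
  intro f hf g
  have h : ∀ ρ : Ref B f, (c • a) ((ρ : UU B) * g) = c • a ((ρ : UU B) * g) := fun _ => rfl
  rw [finsum_congr h, ← smul_finsum, ha f hf g, smul_zero]

theorem conj_wf (g : UU B) : conj (wf q g) = wf q g := by
  rw [wf, map_pow, map_neg, Complex.conj_natCast]

theorem cl_apply {Δ : UU B → ℂ} (hcl : IsClassFunction (UU B) Δ) {s t : UU B} (h : IsConj s t) : Δ s = Δ t := by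
  obtain ⟨c, hc⟩ := isConj_iff.mp h
  rw [← hc, hcl s c]

/-- The decomposition of the Weil character. -/
theorem decomp (h : HS q σ B) (hodd : Odd (finrank F V)) (hn : 3 ≤ finrank F V) (I : Inp q B) [Fintype (UU B)]
    {t : UU B} (ht : IsTv t) :
    ∃ m : IrrCharacter (UU B) → ℕ,
      Dec (fun g : UU B => - wf q g) (fun χ : UU B → ℂ => NoRef χ) t ((q : ℂ) ^ (finrank F V - 1)) m := by
  have hq0 : (q : ℂ) ≠ 0 := by
    have := h.two_le
    exact_mod_cast (by omega : q ≠ 0)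
  have hN0 : (q : ℂ) + 1 ≠ 0 := by
    exact_mod_cast (by omega : q + 1 ≠ 0)
  obtain ⟨e, he0, hee, hte⟩ := ht.2
  have hdtt : dt t = 1 := by
    obtain ⟨k, -, h2⟩ := I.tv he0 hee hte
    exact h2
  have hwt : wf q t = (q : ℂ) ^ (finrank F V - 1) :=
    wf_of_hyper hodd (finrank_fx_tv he0 ht.1 hte (I.finrank_perp _))
  have hcl : IsClassFunction (UU B) (fun g : UU B => - wf q g) := fun g x => by
    show - wf q (x * g * x⁻¹) = - wf q g
    rw [I.wf_class g x]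
  have hstar : Star (fun g : UU B => - wf q g) := by
    have h1 := star_smul (-1) I.star_wf
    have h2 : (-1 : ℂ) • (wf q : UU B → ℂ) = fun g : UU B => - wf q g := by
      ext g
      rw [Pi.smul_apply, smul_eq_mul, neg_one_mul]
    rwa [h2] at h1
  have W : Wd (fun g : UU B => - wf q g) (fun χ : UU B → ℂ => NoRef χ) (fun χ : UU B → ℂ => Star χ) t
      ((q : ℂ) ^ (finrank F V - 1)) ((q : ℂ) + 1) :=
    { om_cl := hcl
      om_re := fun g => by rw [map_neg, conj_wf]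
      S_om := hstar
      S_P := fun χ hχ hP => I.star_of_noRef (isIrr_isCharacter hχ) hP
      S_sub := fun a b ha hb => star_sub ha hb
      S_smul := fun c a ha => star_smul c ha
      perp := fun Δ h1 h2 χ h3 h4 => I.inner_eq_zero h1 h2 h3 h4
      zero := by
        intro Δ h1 h2 h3 h4
        have h5 : ∀ s, IsTv s → Δ s = 0 := fun s hs => by
          rw [cl_apply h1 (I.isConj_tv hs ht), h4]
        have h6 := I.wsum h2 (fun E hE g hg => I.zero_on h1 h2 h3 h5 hE hg)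
          (fun W => - (-(q : ℂ)) ^ finrank F W)
        rw [finsum_eq_sum_of_fintype] at h6
        have h7 : ∑ g : UU B, Δ g * conj (- wf q g) = 0 := by
          rw [← h6]
          refine Finset.sum_congr rfl fun g _ => ?_
          rw [map_neg, conj_wf]
          rfl
        rw [classInner_def, h7, mul_zero]
      om_om := by
        have h6 := I.sum_sq
        rw [finsum_eq_sum_of_fintype] at h6
        have h7 : ∑ g : UU B, (- wf q g) * conj (- wf q g) = (q + 1) * Nat.card (UU B) := by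
          rw [← h6]
          refine Finset.sum_congr rfl fun g _ => ?_
          rw [map_neg, conj_wf]
          ring
        have hc : (Nat.card (UU B) : ℂ) ≠ 0 := card_ne_zero_complex
        rw [classInner_def, h7]
        field_simp
      om_t := by
        show - wf q (1 : UU B) - - wf q t = _
        rw [wf_one hodd, hwt]
        obtain ⟨k, hk⟩ : ∃ k, finrank F V = k + 1 := ⟨finrank F V - 1, by omega⟩
        rw [hk, Nat.add_sub_cancel, pow_succ]
        ring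
      c0 := pow_ne_zero _ hq0
      N0 := hN0
      int := fun χ hχ => I.integrality (isIrr_isCharacter hχ) ht }
  obtain ⟨κ, hκ1, hκ2⟩ := exists_kappa h.two_le h.card
  have hd1 : ∀ κ : Fˣ →* ℂˣ, dh B κ t = 1 := fun κ => by
    show κ (dt t) = 1
    rw [hdtt, map_one]
  obtain ⟨m, h1, h2, h3⟩ := W.inner_om (δ := dh B κ) (δ' := dh B κ) (noRef_dl hκ1 I.ref) (hd1 κ)
    (by
      have h1 : NoRef (dl (κ * κ) : UU B → ℂ) := noRef_dl hκ2 I.ref
      have h2 : (dl (κ * κ) : UU B → ℂ) = fun g => ((dh B κ g : ℂˣ) : ℂ) * ((dh B κ g : ℂˣ) : ℂ) := by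
        ext g
        rw [dh_apply, dl, dl, MonoidHom.mul_apply, Units.val_mul]
      rwa [h2] at h1) (hd1 κ)
    (by
      have h6 := I.sum_sq_dl hκ1
      rw [finsum_eq_sum_of_fintype] at h6
      rw [← h6]
      refine Finset.sum_congr rfl fun g _ => ?_
      rw [dh_apply, neg_sq])
    (fun χ hχ hP hne => I.not_noRef_mul hχ hP ht hne hκ1)
  exact ⟨m, { om_cl := hcl, inner := h1, val := h2, not := h3, c0 := pow_ne_zero _ hq0 }⟩

theorem exists_unique_weil (h : HS q σ B) (hodd : Odd (finrank F V)) (hn : 3 ≤ finrank F V) (I : Inp q B)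
    (ε : Zs B →* ℂˣ) :
    ∃ χ : IrrCharacter (UU B), NoRef (χ : UU B → ℂ) ∧ (∀ t : UU B, IsTv t → (χ : UU B → ℂ) t ≠ (χ : UU B → ℂ) 1) ∧
      (∀ (z : Zs B) (g : UU B), (χ : UU B → ℂ) (z * g) = (ε z : ℂˣ) * (χ : UU B → ℂ) g) ∧
      (∀ g : UU B, (χ : UU B → ℂ) g = ((q : ℂ) + 1)⁻¹ * ∑ᶠ z : Zs B, ((ε z)⁻¹ : ℂˣ) * (- wf q ((z : UU B) * g))) ∧
      ∀ ψ : IrrCharacter (UU B), NoRef (ψ : UU B → ℂ) →
        (∀ t : UU B, IsTv t → (ψ : UU B → ℂ) t ≠ (ψ : UU B → ℂ) 1) →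
        (∀ (z : Zs B) (g : UU B), (ψ : UU B → ℂ) (z * g) = (ε z : ℂˣ) * (ψ : UU B → ℂ) g) → ψ = χ := by
  have := Fintype.ofFinite (UU B)
  have : Nontrivial V := nontrivial_of_finrank_pos (R := F) (by omega)
  obtain ⟨t, ht⟩ := I.exists_isTv
  obtain ⟨m, D⟩ := decomp h hodd hn I ht
  have hcard : (Nat.card (Zs B) : ℂ) = (q : ℂ) + 1 := by
    rw [card_Zs h]
    push_cast
    rfl
  obtain ⟨e, he0, hee, hte⟩ := ht.2
  have hwt : wf q t = (q : ℂ) ^ (finrank F V - 1) :=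
    wf_of_hyper hodd (finrank_fx_tv he0 ht.1 hte (I.finrank_perp _))
  obtain ⟨χ, h1, h2, h3, h4, h5⟩ := D.exists_unique (Zs B) (fun z hz g => zs_comm hz g)
    (by
      rw [hcard, wf_one hodd, hwt]
      obtain ⟨k, hk⟩ : ∃ k, finrank F V = k + 1 := ⟨finrank F V - 1, by omega⟩
      rw [hk, Nat.add_sub_cancel, pow_succ]
      ring)
    (by
      intro z hz hz1
      obtain ⟨c, hc⟩ := hz
      obtain ⟨k, hk, -⟩ := I.tv he0 hee hte
      rw [wf_of_bot (fx_scalar hc hz1), wf_of_bot (fx_scalar_tv hc hz1 hee hk)]) ε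
  refine ⟨χ, h1, fun s hs => ?_, h3, fun g => ?_, fun ψ hψ1 hψ2 hψ3 => h5 ψ hψ1 (hψ2 t ht) hψ3⟩
  · rw [cl_apply (isIrr_isClassFunction χ.2) (I.isConj_tv hs ht)]
    exact h2
  · rw [← hcard]
    exact h4 g

theorem weil_sum_zero (h : HS q σ B) (hodd : Odd (finrank F V)) (hn : 3 ≤ finrank F V) (I : Inp q B)
    {χ : UU B → ℂ} (hχ : IsIrrCharacter (UU B) χ) (hr : NoRef χ)
    (ht : ∀ t : UU B, IsTv t → χ t ≠ χ 1) (Y : Subgroup (UU B)) (hY : ∑ᶠ y : Y, wf q (y : UU B) = 0) :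
    ∑ᶠ y : Y, χ (y : UU B) = 0 := by
  have := Fintype.ofFinite (UU B)
  obtain ⟨t, htv⟩ := I.exists_isTv
  obtain ⟨m, D⟩ := decomp h hodd hn I htv
  refine D.sum_zero hχ hr (ht t htv) Y ?_
  rw [finsum_neg_distrib, hY, neg_zero]

end Cfsg.Agent.H458.CC.Main2Core
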